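import Cfsg.Agent.Lib.XI.Mod4
import Cfsg.Agent.Lib.Oct.Chev

/-!
# The Sylow subgroups of `G₂(p)`
-/

set_option autoImplicit false
set_option linter.unusedSectionVars false

namespace Cfsg.Lib.XI

open Subgroup Cfsg.Lib Cfsg.Lib.Oct Cfsg.Lib.Chev Cfsg.Lie
open scoped commutatorElement

variable {p : ℕ} [hp : Fact p.Prime]

/-- The nilpotent parts of the generators `z, g₃, g₂, g₁, g₀, y`. -/
def xs (i : ℕ) : Sp := lget [] i [[(2, 1, 216, 0), (4, 5, -216, 0)],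
  [(3, 1, -36, 0), (4, 6, 36, 0)],
  [(0, 1, 12, 0), (2, 1, -108, 0), (2, 6, 12, 0), (3, 1, -36, 0), (3, 5, -12, 0), (4, 0, -12, 0),
    (4, 1, -144, 0), (4, 5, 108, 0), (4, 6, 36, 0), (4, 7, 12, 0), (7, 1, -12, 0)],
  [(0, 1, 6, 0), (0, 5, 6, 0), (2, 0, -6, 0), (2, 1, -18, 0), (2, 5, -36, 0), (2, 6, 6, 0),
    (2, 7, 6, 0), (3, 1, -3, 0), (3, 5, -6, 0), (4, 0, -6, 0), (4, 1, -18, 0), (4, 3, -6, 0),
    (4, 5, -18, 0), (4, 6, 3, 0), (4, 7, 6, 0), (6, 1, 6, 0), (7, 1, -6, 0), (7, 5, -6, 0)],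
  [(0, 1, -1, 0), (2, 3, -6, 0), (2, 5, -6, 0), (2, 6, -1, 0), (3, 5, 1, 0), (4, 0, 1, 0),
    (4, 1, -1, 0), (4, 7, -1, 0), (6, 5, 6, 0), (7, 1, 1, 0)],
  [(0, 6, 1, 0), (3, 0, -1, 0), (3, 6, -1, 0), (3, 7, 1, 0), (4, 2, 1, 0), (5, 1, -1, 0),
    (7, 6, -1, 0)]]

/-- The nilpotent parts of the inverses. -/
def xi (i : ℕ) : Sp := comb (fun L => L) [(xs i, -1, 0), (mulS (xs i) (xs i), 1, 0)]

theorem xs_aut : allTo 6 (fun i => autS (oneS ++ xs i) (oneS ++ xi i) &&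
    eqS (mulS (xs i) (mulS (xs i) (xs i))) []) = true := by decide +kernel

/-- The generators. -/
noncomputable def mg (F : Type*) [Field F] (i : Fin 6) : G2 F :=
  ofSp 1 (Bool.and_eq_true_iff.1 (allTo_iff.1 xs_aut i i.2)).1

/-- The test for a commutator relation. -/
def cmS (i j : ℕ) (L : Sp) : Bool := eqS (mulS (oneS ++ xs i) (oneS ++ xs j))
  (mulS (oneS ++ L) (mulS (oneS ++ xs j) (oneS ++ xs i)))

variable {F : Type*} [Field F]

theorem mg_comm {i j : Fin 6} {g : G2 F} {L : Sp} (e : g.1.1 = ev 1 (oneS ++ L))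
    (h : cmS i j L = true) : ⁅mg F i, mg F j⁆ = g := by
  have := ev_eq (1 : F) h
  rw [ev_mulS, ev_mulS, ev_mulS, ← e] at this
  exact comm_eq_iff.2 (Subtype.ext (Units.ext this))

theorem mg_one {i j : Fin 6} (h : cmS i j [] = true) : ⁅mg F i, mg F j⁆ = 1 :=
  mg_comm (by rw [List.append_nil, ev_oneS]; rfl) h

theorem mg_pow [CharP F p] (h3 : 3 ≤ p) (i : Fin 6) : mg F i ^ p = 1 := by
  have := ev_eq (1 : F) (Bool.and_eq_true_iff.1 (allTo_iff.1 xs_aut i i.2)).2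
  rw [ev_mulS, ev_mulS, ev_nil, ← pow_three] at this
  refine Subtype.ext (Units.ext ?_)
  change ev 1 (oneS ++ xs i) ^ p = 1
  rw [ev_append, ev_oneS, add_pow_char_of_commute _ (Commute.one_left _), one_pow,
    pow_eq_zero_of_le h3 this, add_zero]

theorem pc_mg [CharP F p] (h3 : 3 ≤ p) :
    Pc p TG2 6 (six (mg F 0) (mg F 1) (mg F 2) (mg F 3) (mg F 4) (mg F 5)) := by
  refine pcG2 ?_ (by simp [mg_pow h3]) (mg_one (by decide +kernel)) (mg_one (by decide +kernel))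
    ?_ (mg_comm rfl (by decide +kernel)) (mg_comm rfl (by decide +kernel))
    (mg_one (by decide +kernel)) (mg_one (by decide +kernel)) (mg_comm rfl (by decide +kernel))
    (mg_comm rfl (by decide +kernel)) (mg_comm rfl (by decide +kernel))
  · simp only [List.mem_cons, List.not_mem_nil, or_false, forall_eq_or_imp, forall_eq]
    refine ⟨?_, ?_, ?_, ?_, ?_⟩ <;> exact mg_one (by decide +kernel)
  · rw [← commutatorElement_inv, mg_comm (g := mg F 0) rfl (by decide +kernel)]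

theorem mg_ne (h5 : 5 ≤ p) : mg (ZMod p) 0 ≠ 1 := fun H => by
  have : ev (1 : ZMod p) (oneS ++ xs 0) 2 1 = (1 : Matrix (Fin 8) (Fin 8) (ZMod p)) 2 1 :=
    congrArg (fun g : G2 (ZMod p) => g.1.1 2 1) H
  rw [ev_one_apply, show en (oneS ++ xs 0) (2 : Fin 8) (1 : Fin 8) = (6 ^ 3 : ℕ) by decide +kernel,
    Matrix.one_apply_ne (by decide), Int.cast_natCast, ZMod.natCast_eq_zero_iff] at this
  rcases (hp.out.dvd_mul (m := 2) (n := 3)).1 (hp.out.dvd_of_dvd_pow this) with h | h <;>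
    exact absurd (Nat.le_of_dvd (by decide) h) (by omega)

/-- The third conclusion. -/
def IsG2 (p : ℕ) [Fact p.Prime] (G : Type*) [Group G] : Prop :=
  5 ≤ p ∧ ∃ P : Sylow p (G2 (ZMod p)), Nonempty (G ≃* (P : Subgroup (G2 (ZMod p))))

theorem Pc.isG2 {G : Type*} [Group G] [Finite G] {x : ℕ → G} (h : Pc p TG2 6 x) (h5 : 5 ≤ p)
    (hc : Nat.card G = p ^ 6) (hg : gen x 6 = ⊤)
    (hz : ∀ N : Subgroup G, N.Normal → N ≠ ⊥ → x 0 ∈ N) : IsG2 p G :=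
  ⟨h5, h.sylow (pc_mg (by omega)) TG2_lt hc hg (by decide) hz (mg_ne h5)
    (m := (p ^ 2 - 1) * (p ^ 6 - 1)) (by rw [card_G2, Nat.card_zmod, mul_assoc])
    (not_dvd_mul (not_dvd_sub 1) (not_dvd_sub 5))⟩

end Cfsg.Lib.XI
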